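import Groth.Agent.S15042
import Groth.Prelude.Def_Frob
import Mathlib.AlgebraicGeometry.Morphisms.Integral
import Mathlib.AlgebraicGeometry.Morphisms.UniversallyInjective
import Mathlib.RingTheory.Spectrum.Prime.Topology

/-!
# Root extractions are universal homeomorphisms and compose
-/

set_option autoImplicit false
set_option linter.style.haveILetI false
universe u

open CategoryTheory CategoryTheory.Limits AlgebraicGeometry

namespace Groth.Agent.QuietComp28

open Polynomial in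
/-- Over a ring of characteristic `p` a root tower is injective, and raises into the base by iterated Frobenius. -/
theorem tower_props (p : ℕ) (hp : p.Prime) (n : ℕ) : ∀ (A B : Type u) [CommRing A] [CommRing B] [Algebra A B],
    (p : A) = 0 → Quiet.IsRootTower p n A B →
      Function.Injective (algebraMap A B) ∧ ∀ b : B, ∃ (N : ℕ) (a : A), algebraMap A B a = b ^ p ^ N := by
  induction n with
  | zero =>
    intro A B _ _ _ _ hT
    simp only [Quiet.IsRootTower] at hT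
    obtain ⟨e⟩ := hT
    refine ⟨fun a b h => ?_, fun b => ⟨0, e b, ?_⟩⟩
    · simpa using congrArg e h
    · rw [pow_zero, pow_one]
      exact e.injective (e.commutes _)
  | succ n ih =>
    intro A B _ _ _ hpA hT
    simp only [Quiet.IsRootTower] at hT
    obtain ⟨a, algR, htow, hT⟩ := hT
    have hpR : (p : Quiet.RootRing p A a) = 0 := by
      rw [← map_natCast (AdjoinRoot.of (X ^ p - C a : A[X])) p, hpA, map_zero]
    obtain ⟨hinj, hpow⟩ := ih _ _ hpR hT
    have hof : Function.Injective (AdjoinRoot.of (X ^ p - C a : A[X])) := by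
      rw [injective_iff_map_eq_zero]
      intro c hc
      by_contra hc0
      have : Nontrivial A := ⟨c, 0, hc0⟩
      change AdjoinRoot.mk _ (C c) = 0 at hc
      rw [AdjoinRoot.mk_eq_zero] at hc
      refine (monic_X_pow_sub_C a hp.ne_zero).not_dvd_of_natDegree_lt (by simpa using hc0) ?_ hc
      rw [natDegree_C, natDegree_X_pow_sub_C]
      exact hp.pos
    have hfrob : ∀ r : Quiet.RootRing p A a, ∃ c, AdjoinRoot.of _ c = r ^ p := by
      intro r
      induction r using AdjoinRoot.induction_on with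
      | ih q =>
        induction q using Polynomial.induction_on' with
        | add q₁ q₂ h₁ h₂ =>
          obtain ⟨c₁, e₁⟩ := h₁
          obtain ⟨c₂, e₂⟩ := h₂
          obtain ⟨r, hr⟩ := exists_add_pow_prime_pow_eq hp (AdjoinRoot.mk (X ^ p - C a : A[X]) q₁)
            (AdjoinRoot.mk (X ^ p - C a : A[X]) q₂) 1
          refine ⟨c₁ + c₂, ?_⟩
          rw [pow_one, hpR] at hr
          rw [map_add, e₁, e₂, map_add, hr]
          ring
        | monomial i c =>
          refine ⟨c ^ p * a ^ i, ?_⟩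
          have h : AdjoinRoot.root (X ^ p - C a : A[X]) ^ p = AdjoinRoot.of _ a := by
            have := AdjoinRoot.eval₂_root (X ^ p - C a : A[X])
            rwa [eval₂_sub, eval₂_pow, eval₂_X, eval₂_C, sub_eq_zero] at this
          rw [← C_mul_X_pow_eq_monomial, map_mul, map_pow, map_pow, map_mul, map_pow, AdjoinRoot.mk_X,
            AdjoinRoot.mk_C, mul_pow, ← pow_mul, mul_comm i p, pow_mul, h]
    refine ⟨?_, fun b => ?_⟩
    · rw [IsScalarTower.algebraMap_eq A (Quiet.RootRing p A a) B, RingHom.coe_comp]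
      exact hinj.comp hof
    · obtain ⟨N, r, hr⟩ := hpow b
      obtain ⟨c, hc⟩ := hfrob r
      refine ⟨N + 1, c, ?_⟩
      rw [IsScalarTower.algebraMap_apply A (Quiet.RootRing p A a) B, pow_succ, pow_mul, ← hr, ← map_pow]
      exact congrArg _ hc

theorem isIntegral_of_tower {p : ℕ} (hp : p.Prime) {n : ℕ} {A B : Type u} [CommRing A] [CommRing B] [Algebra A B]
    (hA : (p : A) = 0) (hT : Quiet.IsRootTower p n A B) : (algebraMap A B).IsIntegral := fun b => by
  obtain ⟨N, a, ha⟩ := (tower_props p hp n A B hA hT).2 b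
  exact IsIntegral.of_pow (pow_pos hp.pos N) (ha ▸ isIntegral_algebraMap)

theorem comap_bijective_of_tower {p : ℕ} (hp : p.Prime) {n : ℕ} {A B : Type u} [CommRing A] [CommRing B]
    [Algebra A B] (hA : (p : A) = 0) (hT : Quiet.IsRootTower p n A B) :
    Function.Bijective (PrimeSpectrum.comap (algebraMap A B)) := by
  obtain ⟨hinj, hpow⟩ := tower_props p hp n A B hA hT
  refine ⟨fun P Q h => PrimeSpectrum.ext (Ideal.ext fun b => ?_),
    (isIntegral_of_tower hp hA hT).comap_surjective hinj⟩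
  obtain ⟨N, a, ha⟩ := hpow b
  have hne : p ^ N ≠ 0 := pow_ne_zero _ hp.ne_zero
  have e : a ∈ (PrimeSpectrum.comap (algebraMap A B) P).asIdeal ↔ a ∈ (PrimeSpectrum.comap (algebraMap A B) Q).asIdeal := by
    rw [h]
  simp only [PrimeSpectrum.comap_asIdeal, Ideal.mem_comap, ha] at e
  rwa [P.isPrime.pow_mem_iff_mem _ (Nat.pos_of_ne_zero hne),
    Q.isPrime.pow_mem_iff_mem _ (Nat.pos_of_ne_zero hne)] at e

/-- Root towers compose. -/
theorem isRootTower_trans (p n : ℕ) : ∀ (m : ℕ) (A B C : Type u) [CommRing A] [CommRing B] [CommRing C]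
    [Algebra A B] [Algebra B C] [Algebra A C] [IsScalarTower A B C],
    Quiet.IsRootTower p n A B → Quiet.IsRootTower p m B C → Quiet.IsRootTower p (n + m) A C := by
  induction n with
  | zero =>
    intro m A B C _ _ _ _ _ _ _ h hT
    simp only [Quiet.IsRootTower] at h
    obtain ⟨e⟩ := h
    rw [Nat.zero_add]
    haveI : IsIso (CommRingCat.ofHom e.toRingEquiv.toRingHom) := by
      rw [ConcreteCategory.isIso_iff_bijective]
      exact e.bijective
    refine S15042.isRootTower_pushout p m B C A C e.toRingEquiv.toRingHom (RingHom.id C) ?_ hT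
    haveI : IsIso (CommRingCat.ofHom (RingHom.id C)) := inferInstanceAs (IsIso (𝟙 (CommRingCat.of C)))
    refine IsPushout.of_vert_isIso ⟨?_⟩
    ext b
    show algebraMap B C b = algebraMap A C (e b)
    rw [IsScalarTower.algebraMap_apply A B C]
    exact congrArg _ (e.injective (e.commutes _)).symm
  | succ n ih =>
    intro m A B C _ _ _ _ _ _ _ h hT
    simp only [Quiet.IsRootTower] at h
    obtain ⟨a, algR, htow, h⟩ := h
    rw [Nat.succ_add]
    simp only [Quiet.IsRootTower]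
    letI : Algebra (Quiet.RootRing p A a) C :=
      ((algebraMap B C).comp (algebraMap (Quiet.RootRing p A a) B)).toAlgebra
    haveI : IsScalarTower (Quiet.RootRing p A a) B C := IsScalarTower.of_algebraMap_eq' rfl
    haveI : IsScalarTower A (Quiet.RootRing p A a) C := IsScalarTower.of_algebraMap_eq fun x => by
      show algebraMap A C x = algebraMap B C (algebraMap (Quiet.RootRing p A a) B (algebraMap A _ x))
      rw [← IsScalarTower.algebraMap_apply A (Quiet.RootRing p A a) B, ← IsScalarTower.algebraMap_apply A B C]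
    exact ⟨a, inferInstance, this, ih m _ B C h hT⟩

variable {X Y Z : Scheme.{u}}

/-- A tower over an affine open gives one over every smaller affine open. -/
theorem tower_of_le (p : ℕ) (r : Y ⟶ X) {U U' : X.Opens} (hU : IsAffineOpen U) (hV : IsAffineOpen (r ⁻¹ᵁ U))
    {n : ℕ} (hT : letI := (r.app U).hom.toAlgebra; Quiet.IsRootTower p n Γ(X, U) Γ(Y, r ⁻¹ᵁ U))
    (hU' : IsAffineOpen U') (hle : U' ≤ U) :
    IsAffineOpen (r ⁻¹ᵁ U') ∧ (letI := (r.app U').hom.toAlgebra; Quiet.IsRootTower p n Γ(X, U') Γ(Y, r ⁻¹ᵁ U')) := by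
  have H : IsPullback (𝟙 Y) r r (𝟙 X) := IsPullback.of_horiz_isIso ⟨by simp⟩
  have hle' : U' ≤ (𝟙 X : X ⟶ X) ⁻¹ᵁ U := hle
  have hUY : r ⁻¹ᵁ U' = (𝟙 Y : Y ⟶ Y) ⁻¹ᵁ (r ⁻¹ᵁ U) ⊓ r ⁻¹ᵁ U' :=
    (inf_eq_right.2 (r.preimage_mono hle)).symm
  haveI : IsAffine U.toScheme := hU
  haveI : IsAffine U'.toScheme := hU'
  haveI : IsAffine (r ⁻¹ᵁ U).toScheme := hV
  have hP := (isIso_pushoutSection_iff H hle' (le_refl _) hUY).1
    (isIso_pushoutSection_of_isAffineOpen H hle' (le_refl _) hUY hU hU' hV)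
  refine ⟨.of_isIso (Scheme.Hom.isPullback_resLE H hle' (le_refl _) hUY).isoPullback.hom, ?_⟩
  letI := (r.app U).hom.toAlgebra
  letI := (r.app U').hom.toAlgebra
  refine S15042.isRootTower_pushout p n _ _ _ _ ((𝟙 X : X ⟶ X).appLE U U' hle').hom
    ((𝟙 Y : Y ⟶ Y).appLE (r ⁻¹ᵁ U) (r ⁻¹ᵁ U') (by rw [hUY]; exact inf_le_left)).hom ?_ hT
  simp only [RingHom.algebraMap_toAlgebra, CommRingCat.ofHom_hom]
  rw [r.app_eq_appLE, r.app_eq_appLE]
  exact hP

/-- A root extraction in characteristic `p` is a homeomorphism onto the target, affine locally. -/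
theorem tower_point (p : ℕ) (hp : p.Prime) [FrobSch.IsCharP X p] (r : Y ⟶ X) {U : X.Opens} (hU : IsAffineOpen U)
    (hV : IsAffineOpen (r ⁻¹ᵁ U)) {n : ℕ}
    (hT : letI := (r.app U).hom.toAlgebra; Quiet.IsRootTower p n Γ(X, U) Γ(Y, r ⁻¹ᵁ U)) :
    (∀ x ∈ U, ∃! y, r y = x) ∧
      ∀ (W : Y.Opens) (x : X), x ∈ U → (∀ y, r y = x → y ∈ W) → ∃ O : X.Opens, x ∈ O ∧ O ≤ U ∧ r ⁻¹ᵁ O ≤ W := by
  letI := (r.app U).hom.toAlgebra
  have hA : (p : Γ(X, U)) = 0 := FrobSch.natCast_eq_zero_app X p U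
  have hb : Function.Bijective (PrimeSpectrum.comap (r.app U).hom) := comap_bijective_of_tower hp hA hT
  have hcl : IsClosedMap (PrimeSpectrum.comap (r.app U).hom) :=
    PrimeSpectrum.isClosedMap_comap_of_isIntegral _ (isIntegral_of_tower hp hA hT)
  have hsq : ∀ b, hU.fromSpec (PrimeSpectrum.comap (r.app U).hom b) = r (hV.fromSpec b) := fun b => by
    have h := IsAffineOpen.SpecMap_appLE_fromSpec r hU hV le_rfl
    rw [← r.app_eq_appLE] at h
    exact congrArg (fun φ : _ ⟶ X => φ b) h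
  have hUr : ∀ x ∈ U, ∃ a, hU.fromSpec a = x := fun x hx => by
    have : x ∈ (U : Set X) := hx
    rw [← hU.range_fromSpec] at this
    exact this
  have hVr : ∀ y, r y ∈ U → ∃ b, hV.fromSpec b = y := fun y hy => by
    have : y ∈ (r ⁻¹ᵁ U : Y.Opens) := hy
    rw [← SetLike.mem_coe, ← hV.range_fromSpec] at this
    exact this
  constructor
  · intro x hx
    obtain ⟨a, rfl⟩ := hUr x hx
    obtain ⟨b, rfl⟩ := hb.2 a
    refine ⟨hV.fromSpec b, (hsq b).symm, fun y hy => ?_⟩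
    obtain ⟨b', rfl⟩ := hVr y (hy ▸ hx)
    rw [hb.1 (hU.fromSpec.isOpenEmbedding.injective ((hsq b').trans hy))]
  · intro W x hx hW
    obtain ⟨a, rfl⟩ := hUr x hx
    let C : Set (PrimeSpectrum Γ(Y, r ⁻¹ᵁ U)) := {b | hV.fromSpec b ∉ W}
    have hC : IsClosed (PrimeSpectrum.comap (r.app U).hom '' C) :=
      hcl C (hV.fromSpec ⁻¹ᵁ W).isOpen.isClosed_compl
    let O' : (Spec Γ(X, U)).Opens := ⟨(PrimeSpectrum.comap (r.app U).hom '' C)ᶜ, hC.isOpen_compl⟩
    refine ⟨hU.fromSpec ''ᵁ O', ⟨a, ?_, rfl⟩, ?_, ?_⟩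
    · rintro ⟨b, hbC, rfl⟩
      exact hbC (hW _ (hsq b).symm)
    · rintro _ ⟨z, -, rfl⟩
      show hU.fromSpec z ∈ (U : Set X)
      rw [← hU.range_fromSpec]
      exact ⟨z, rfl⟩
    · rintro y ⟨z, hz, hzy⟩
      have hyU : r y ∈ U := by
        rw [← hzy, ← SetLike.mem_coe, ← hU.range_fromSpec]
        exact ⟨z, rfl⟩
      obtain ⟨b, rfl⟩ := hVr y hyU
      obtain rfl := hU.fromSpec.isOpenEmbedding.injective (hzy.trans (hsq b).symm)
      by_contra hbW
      exact hz ⟨b, hbW, rfl⟩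

/-- Root extractions compose. -/
theorem isPthRoot_comp (p : ℕ) (hp : p.Prime) [FrobSch.IsCharP X p] (r₂ : Z ⟶ Y) (r₁ : Y ⟶ X)
    (h₂ : Quiet.IsPthRoot p r₂) (h₁ : Quiet.IsPthRoot p r₁) : Quiet.IsPthRoot p (r₂ ≫ r₁) := by
  intro x
  obtain ⟨U, hxU, hV, n, hT⟩ := h₁ x
  obtain ⟨huniq, hnhd⟩ := tower_point p hp r₁ U.2 hV hT
  obtain ⟨y, hyx, hy⟩ := huniq x hxU
  obtain ⟨U₂, hyU₂, hV₂, m, hT₂⟩ := h₂ y
  obtain ⟨O, hxO, hOU, hO⟩ := hnhd U₂.1 x hxU (fun y' hy' => by rw [hy y' hy']; exact hyU₂)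
  obtain ⟨_, ⟨(U' : X.Opens), hU', rfl⟩, hxU', hle⟩ :=
    X.isBasis_affineOpens.exists_subset_of_mem_open (show x ∈ O from hxO) O.2
  have hle' : U' ≤ O := hle
  obtain ⟨hV', hT'⟩ := tower_of_le p r₁ U.2 hV hT hU' (hle'.trans hOU)
  obtain ⟨hV₂', hT₂'⟩ := tower_of_le p r₂ U₂.2 hV₂ hT₂ hV' ((r₁.preimage_mono hle').trans hO)
  refine ⟨⟨U', hU'⟩, hxU', hV₂', n + m, ?_⟩
  letI := (r₁.app U').hom.toAlgebra
  letI := (r₂.app (r₁ ⁻¹ᵁ U')).hom.toAlgebra
  letI : Algebra Γ(X, U') Γ(Z, r₂ ⁻¹ᵁ (r₁ ⁻¹ᵁ U')) := ((r₂ ≫ r₁).app U').hom.toAlgebra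
  haveI : IsScalarTower Γ(X, U') Γ(Y, r₁ ⁻¹ᵁ U') Γ(Z, r₂ ⁻¹ᵁ (r₁ ⁻¹ᵁ U')) :=
    IsScalarTower.of_algebraMap_eq fun _ => rfl
  exact isRootTower_trans p n m Γ(X, U') Γ(Y, r₁ ⁻¹ᵁ U') Γ(Z, r₂ ⁻¹ᵁ (r₁ ⁻¹ᵁ U')) hT' hT₂'

set_option backward.isDefEq.respectTransparency.types false in
/-- Root extractions in characteristic `p` are universal homeomorphisms. -/
theorem univHomeo_of_isPthRoot (p : ℕ) (hp : p.Prime) [FrobSch.IsCharP X p] (r : Y ⟶ X)
    (hr : Quiet.IsPthRoot p r) : IsIntegralHom r ∧ UniversallyInjective r ∧ Surjective r := by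
  refine ⟨?_, ⟨fun Y' X' g g' f' H => ?_⟩, ⟨fun x => ?_⟩⟩
  · choose U hxU hV n hT using hr
    refine IsZariskiLocalAtTarget.of_iSup_eq_top (P := @IsIntegralHom.{u}) (fun x => (U x).1)
      (eq_top_iff.2 fun x _ => TopologicalSpace.Opens.mem_iSup.2 ⟨x, hxU x⟩) fun x => ?_
    haveI : IsAffine (U x).1.toScheme := (U x).2
    rw [HasAffineProperty.iff_of_isAffine (P := @IsIntegralHom.{u})]
    refine ⟨hV x, ?_⟩
    letI := (r.app (U x).1).hom.toAlgebra
    have hi : (r.app (U x).1).hom.IsIntegral :=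
      isIntegral_of_tower hp (FrobSch.natCast_eq_zero_app X p _) (hT x)
    have e := (arrowResLEAppIso r (U x).1 (r ⁻¹ᵁ (U x).1) le_rfl)
    rw [← Scheme.Hom.resLE_eq_morphismRestrict]
    exact (RingHom.isIntegral_respectsIso.arrow_mk_iso_iff e).2 (by rw [← r.app_eq_appLE]; exact hi)
  · haveI : FrobSch.IsCharP X' p := FrobSch.IsCharP.of_hom g' p
    intro a b hab
    obtain ⟨U, hxU, hV, n, hT⟩ := S15042.isPthRoot_baseChange p H.flip hr (f' a)
    exact ((tower_point p hp f' U.2 hV hT).1 _ hxU).unique rfl hab.symm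
  · obtain ⟨U, hxU, hV, n, hT⟩ := hr x
    exact ((tower_point p hp r U.2 hV hT).1 x hxU).exists

end Groth.Agent.QuietComp28
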